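import Mathlib
import Cfsg.Agent.Lib.Alternating.Aut

/-!
An automorphism of `A₆` fixing an element of order three is induced by `S₆`.
-/

set_option autoImplicit false

namespace Cfsg.Agent.Lib.TwoSymFour12

open Equiv Equiv.Perm

def six33 : Perm (Fin 6) := (swap 0 1 * swap 1 2) * (swap 3 4 * swap 4 5)

def oddFix : Perm (Fin 6) := swap 0 3 * swap 1 4 * swap 2 5

theorem six33_facts : oddFix * six33 = six33 * oddFix ∧ Perm.sign oddFix = -1 ∧
    six33.support.card = 6 ∧ six33 ^ 3 = 1 := by decide +kernel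

theorem cycleType_three {σ : Perm (Fin 6)} (h3 : σ ^ 3 = 1) (h1 : σ ≠ 1) :
    σ.IsThreeCycle ∨ σ.cycleType = ({3, 3} : Multiset ℕ) := by
  haveI := Fact.mk Nat.prime_three
  obtain ⟨n, hn⟩ := Perm.cycleType_prime_order (σ := σ) (by
    rw [orderOf_eq_prime h3 h1]; exact Nat.prime_three)
  rw [orderOf_eq_prime h3 h1] at hn
  have hs : σ.cycleType.sum ≤ 6 := by
    rw [Perm.sum_cycleType]
    simpa using σ.support.card_le_univ
  rw [hn, Multiset.sum_replicate, smul_eq_mul] at hs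
  rcases (show n = 0 ∨ n = 1 by omega) with rfl | rfl
  · exact Or.inl hn
  · exact Or.inr hn

theorem isConj_double {x y : ↥(alternatingGroup (Fin 6))}
    (hx : (x : Perm (Fin 6)).cycleType = ({3, 3} : Multiset ℕ))
    (hy : (y : Perm (Fin 6)).cycleType = ({3, 3} : Multiset ℕ)) : IsConj x y := by
  have h0 : six33.cycleType = ({3, 3} : Multiset ℕ) := by
    obtain ⟨-, -, hs, h3⟩ := six33_facts
    rcases cycleType_three h3 (by decide +kernel) with h | h
    · rw [h.card_support] at hs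
      norm_num at hs
    · exact h
  have key : ∀ z : ↥(alternatingGroup (Fin 6)), (z : Perm (Fin 6)).cycleType = ({3, 3} : Multiset ℕ) →
      ∃ σ : Perm (Fin 6), Perm.sign σ = 1 ∧ σ * six33 * σ⁻¹ = z := by
    intro z hz
    obtain ⟨σ, hσ⟩ := isConj_iff.1 (Perm.isConj_iff_cycleType_eq.2 (h0.trans hz.symm))
    rcases Int.units_eq_one_or (Perm.sign σ) with h | h
    · exact ⟨σ, h, hσ⟩
    · obtain ⟨hc, hs, -, -⟩ := six33_facts
      refine ⟨σ * oddFix, by rw [map_mul, h, hs]; rfl, ?_⟩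
      rw [← hσ]
      calc σ * oddFix * six33 * (σ * oddFix)⁻¹ = σ * (oddFix * six33) * oddFix⁻¹ * σ⁻¹ := by group
        _ = σ * six33 * σ⁻¹ := by rw [hc]; group
  obtain ⟨σ, hσ1, hσ⟩ := key x hx
  obtain ⟨ρ, hρ1, hρ⟩ := key y hy
  refine isConj_iff.2 ⟨⟨ρ * σ⁻¹, Perm.mem_alternatingGroup.2 (by rw [map_mul, map_inv, hσ1, hρ1]; rfl)⟩, Subtype.ext ?_⟩
  show ρ * σ⁻¹ * (x : Perm (Fin 6)) * (ρ * σ⁻¹)⁻¹ = y
  rw [← hρ, ← hσ]
  group

/-- An automorphism of `A₆` fixing an element of order three is induced by `S₆`. -/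
theorem exists_conjNormal (ψ : MulAut ↥(alternatingGroup (Fin 6))) {x : ↥(alternatingGroup (Fin 6))}
    (h3 : x ^ 3 = 1) (h1 : x ≠ 1) (hx : ψ x = x) :
    ∃ σ : Perm (Fin 6), MulAut.conjNormal σ = ψ := by
  refine Cfsg.Agent.Lib.Alternating.exists_conjNormal_eq_of_threeCycle (by simp) ψ fun y hy => ?_
  have hx3 : (x : Perm (Fin 6)) ^ 3 = 1 := congrArg Subtype.val h3
  have hx1 : (x : Perm (Fin 6)) ≠ 1 := fun h => h1 (Subtype.ext h)
  have hy3 : (y : Perm (Fin 6)) ^ 3 = 1 := by rw [← hy.orderOf, pow_orderOf_eq_one]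
  have hψ3 : (ψ y : Perm (Fin 6)) ^ 3 = 1 := by
    have h : y ^ 3 = 1 := Subtype.ext hy3
    have : ψ y ^ 3 = 1 := by rw [← map_pow, h, map_one]
    exact congrArg Subtype.val this
  have hψ1 : (ψ y : Perm (Fin 6)) ≠ 1 := fun h => by
    have : ψ y = 1 := Subtype.ext h
    rw [MulEquiv.map_eq_one_iff] at this
    rw [this] at hy
    exact absurd hy.orderOf (by simp)
  rcases cycleType_three hx3 hx1 with h | h
  · obtain ⟨c, hc⟩ := isConj_iff.1 (alternatingGroup.isThreeCycle_isConj (by simp) h hy)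
    rw [← hc, map_mul, map_mul, map_inv, hx]
    have hct : ((ψ c * x * (ψ c)⁻¹ : ↥(alternatingGroup (Fin 6))) : Perm (Fin 6)).cycleType = {3} := by
      push_cast
      rw [Perm.cycleType_conj]; exact h
    exact hct
  · rcases cycleType_three hψ3 hψ1 with h' | h'
    · exact h'
    · exfalso
      have hc := isConj_double h h'
      obtain ⟨c, hc⟩ := isConj_iff.1 hc
      have hcy : ψ (ψ.symm c * x * (ψ.symm c)⁻¹) = ψ y := by
        rw [map_mul, map_mul, map_inv, hx, MulEquiv.apply_symm_apply, hc]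
      have h2 : (y : Perm (Fin 6)).cycleType = ({3, 3} : Multiset ℕ) := by
        rw [← ψ.injective hcy]
        push_cast
        rw [Perm.cycleType_conj]; exact h
      rw [hy] at h2
      exact absurd h2 (by decide)

theorem conjNormal_injective :
    Function.Injective (MulAut.conjNormal : Perm (Fin 6) →* MulAut ↥(alternatingGroup (Fin 6))) := by
  rw [← MonoidHom.ker_eq_bot_iff, Subgroup.eq_bot_iff_forall]
  intro σ hσ
  have hfix : ∀ a : ↥(alternatingGroup (Fin 6)), σ * (a : Perm (Fin 6)) * σ⁻¹ = a := fun a => by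
    rw [← MulAut.conjNormal_apply, MonoidHom.mem_ker.1 hσ]; rfl
  have key : ∀ τ : Perm (Fin 6), τ * (swap 0 1 * swap 1 2) = (swap 0 1 * swap 1 2) * τ →
      τ * (swap 3 4 * swap 4 5) = (swap 3 4 * swap 4 5) * τ → τ * (swap 1 2 * swap 2 3) = (swap 1 2 * swap 2 3) * τ →
      τ = 1 := by decide +kernel
  exact key σ (mul_inv_eq_iff_eq_mul.1 (hfix ⟨_, Perm.mem_alternatingGroup.2 (by decide)⟩)) (mul_inv_eq_iff_eq_mul.1 (hfix ⟨_, Perm.mem_alternatingGroup.2 (by decide)⟩))
    (mul_inv_eq_iff_eq_mul.1 (hfix ⟨_, Perm.mem_alternatingGroup.2 (by decide)⟩))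

end Cfsg.Agent.Lib.TwoSymFour12
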