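import Mathlib

/-!
Finite facts about `Z₂ × S₄`, used for groups with an involution centraliser of this shape.
-/

set_option autoImplicit false

set_option synthInstance.maxSize 4096
set_option synthInstance.maxHeartbeats 400000

namespace Cfsg.Agent.Lib.TwoSymFour12

open Equiv

/-- The model group. -/
abbrev Q := Multiplicative (ZMod 2) × Perm (Fin 4)

def tau : Q := (Multiplicative.ofAdd 1, 1)
def dv : Perm (Fin 4) := swap 0 1 * swap 2 3
def qz : Q := (1, dv)
def qv : Q := (1, swap 0 2 * swap 1 3)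
def qs : Q := (1, swap 0 1)
def qs' : Q := (1, swap 2 3)
def qk : Q := (1, swap 0 1 * swap 1 2)

/-- The Sylow subgroup of the model. -/
def sylQ : Subgroup Q := Subgroup.centralizer ({qz} : Set Q)

theorem mem_sylQ {q : Q} : q ∈ sylQ ↔ q * qz = qz * q := Subgroup.mem_centralizer_singleton_iff

theorem card_Q : Nat.card Q = 48 := by
  rw [Nat.card_eq_fintype_card]; decide

theorem card_sylQ : Nat.card ↥sylQ = 16 := by
  rw [Nat.card_congr (Equiv.subtypeEquivRight fun q => mem_sylQ), Nat.card_eq_fintype_card]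
  decide +kernel

theorem center_cases : ∀ q : Q, (∀ r, q * r = r * q) → q = 1 ∨ q = tau := by decide +kernel

theorem tau_central : ∀ q : Q, q * tau = tau * q := by decide +kernel

theorem tau_sq : tau * tau = 1 ∧ tau ≠ 1 ∧ qz * qz = 1 ∧ qz ≠ 1 := by decide

theorem commutator_cases : ∀ a : Q, a * qz = qz * a → ∀ b : Q, b * qz = qz * b →
    a * b * a⁻¹ * b⁻¹ = 1 ∨ a * b * a⁻¹ * b⁻¹ = qz := by decide +kernel

theorem qz_commutator : ∃ a b : Q, a * qz = qz * a ∧ b * qz = qz * b ∧ a * b * a⁻¹ * b⁻¹ = qz := by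
  decide +kernel

/-- Representatives of the classes of involutions. -/
theorem involution_cases : ∀ q : Q, q * q = 1 → q ≠ 1 →
    q = tau ∨ (∃ c, c * qz * c⁻¹ = q) ∨ (∃ c, c * (tau * qz) * c⁻¹ = q) ∨
      (∃ c, c * qs * c⁻¹ = q) ∨ (∃ c, c * (tau * qs) * c⁻¹ = q) := by decide +kernel

/-- A twist exchanging `qs` and `tau * qs`. -/
def twist : Q ≃* Q where
  toFun q := (if Perm.sign q.2 = 1 then q.1 else q.1 * Multiplicative.ofAdd 1, q.2)
  invFun q := (if Perm.sign q.2 = 1 then q.1 else q.1 * Multiplicative.ofAdd 1, q.2)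
  left_inv := by unfold Function.LeftInverse; decide +kernel
  right_inv := by unfold Function.RightInverse Function.LeftInverse; decide +kernel
  map_mul' := by decide +kernel

theorem twist_facts : twist (tau * qs) = qs ∧ twist tau = tau ∧ twist qz = qz ∧
    twist.symm qs = tau * qs := by decide +kernel

/-- The linear character used for the transfer. -/
def lam : Q →* Multiplicative (ZMod 2) where
  toFun q := if Perm.sign q.2 = 1 then q.1 else q.1 * Multiplicative.ofAdd 1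
  map_one' := by decide
  map_mul' := by decide +kernel

theorem lam_facts : lam tau = Multiplicative.ofAdd 1 ∧ lam qs = Multiplicative.ofAdd 1 ∧
    lam qz = 1 ∧ lam (tau * qs) = 1 ∧ lam (tau * qz) = Multiplicative.ofAdd 1 ∧ lam qk = 1 := by
  decide

theorem lam_ker_gen : ∀ q : Q, q * qz = qz * q → lam q = 1 →
    ∃ a b : Q, q = a * b ∧ (a * qz = qz * a ∧ a * a = 1 ∧ lam a = 1) ∧
      (b * qz = qz * b ∧ b * b = 1 ∧ lam b = 1) := by decide +kernel

/-- The dihedral group inside the kernel of `lam`. -/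
def dihQ : DihedralGroup 4 → Q
  | .r i => ((Multiplicative.ofAdd 1, swap 0 2 * swap 2 1 * swap 1 3) : Q) ^ i.val
  | .sr i => (tau * qs) * ((Multiplicative.ofAdd 1, swap 0 2 * swap 2 1 * swap 1 3) : Q) ^ i.val

theorem dihQ_mul : ∀ a b, dihQ (a * b) = dihQ a * dihQ b := by decide +kernel

theorem dihQ_injective : ∀ a b, dihQ a = dihQ b → a = b := by decide +kernel

theorem dihQ_mem : ∀ a, dihQ a * qz = qz * dihQ a ∧ lam (dihQ a) = 1 := by decide +kernel

theorem dihQ_surj : ∀ q : Q, q * qz = qz * q → lam q = 1 → ∃ a, dihQ a = q := by decide +kernel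

theorem odd_normal_trivial : ∀ q : Q, q ^ 3 = 1 → q ≠ 1 →
    ∃ c, c * q * c⁻¹ * q⁻¹ ≠ 1 ∧ (c * q * c⁻¹ * q⁻¹) ^ 2 = 1 := by decide +kernel

theorem order_odd : ∀ q : Q, q ^ 3 = 1 ∨ q ^ 4 = 1 ∨ q ^ 6 = 1 := by decide +kernel

theorem v_facts : (∃ c, c * qz * c⁻¹ = qv) ∧ qv * qv = 1 ∧
    (∃ c, c * qz * c⁻¹ = (qz * qv)) := by decide +kernel

theorem qk_facts : qk ^ 3 = 1 ∧ qk ≠ 1 ∧ qk * tau = tau * qk := by decide +kernel

/-- Two commuting conjugates of `tau` other than `tau`, with product outside their class. -/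
theorem pair_cases : ∀ a b : Q, (∃ c, c * qs * c⁻¹ = a) → (∃ c, c * qs * c⁻¹ = b) → a * b = b * a → a ≠ b →
    (∃ c, c * (tau * qs) * c⁻¹ = tau * b) ∧ ((∃ c, c * qz * c⁻¹ = a * b) ∨ (∃ c, c * (tau * qz) * c⁻¹ = a * b)) := by
  decide +kernel

theorem pair_cases' : ∀ a b : Q, ((∃ c, c * qs * c⁻¹ = a) ∨ (∃ c, c * (tau * qs) * c⁻¹ = a)) →
    ((∃ c, c * qs * c⁻¹ = b) ∨ (∃ c, c * (tau * qs) * c⁻¹ = b)) → a * b = b * a → a ≠ b → a * b ≠ tau →
    ((∃ c, c * qz * c⁻¹ = a * b) ∨ (∃ c, c * (tau * qz) * c⁻¹ = a * b)) := by decide +kernel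

theorem small_facts : qs * qs' = qz ∧ qs * qs' = qs' * qs ∧ qs ≠ qs' ∧ tau ≠ qs ∧ tau ≠ qs' ∧
    (∃ c, c * qs * c⁻¹ = qs') ∧ (∃ c, c * (tau * qs) * c⁻¹ = tau * qs') ∧
    tau * qs' ≠ qs ∧ tau * qs ≠ qs' := by decide +kernel

theorem noncommuting : ∃ c, qs * (c * qs * c⁻¹) ≠ c * qs * c⁻¹ * qs := by decide +kernel

theorem kernel_central : ∀ q : Q, q * qz = qz * q → q * qk = qk * q → lam q ≠ 1 → q = tau := by
  decide +kernel

end Cfsg.Agent.Lib.TwoSymFour12
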