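import Cfsg.Agent.Lib.TwoSymFour12.Setup
import Cfsg.Agent.Lib.Fusion.Thompson
import Cfsg.Agent.Lib.SylowInter.CharLocal
import Cfsg.Agent.Lib.ZStar.UniqueCase

/-!
The isolated case, and fusion and transfer in the other case.
-/

set_option autoImplicit false

namespace Cfsg.Agent.Lib.TwoSymFour12

variable {G : Type*} [Group G] [Finite G]

theorem isConj_iff_of {x y w : G} (hxy : IsConj x y) : IsConj y w ↔ IsConj x w :=
  ⟨hxy.trans, hxy.symm.trans⟩

namespace Setup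

variable (h : Setup G)

theorem t_mem_P : h.t ∈ h.P := by
  rw [← h.ι_tau]; exact h.mem_P.2 (tau_central qz).symm

/-- An isolated `t` is central. -/
theorem centralizer_eq_top (hiso : ∀ g : G, g * h.t * g⁻¹ ∈ h.P → g * h.t * g⁻¹ = h.t) :
    Subgroup.centralizer ({h.t} : Set G) = ⊤ := by
  obtain ⟨S, hS⟩ := h.exists_sylow
  have hmem : ∀ x, x ∈ (S : Subgroup G) ↔ x ∈ h.P := fun x => by rw [hS]
  obtain ⟨N, hNn, hNo, hN⟩ := Cfsg.Agent.Lib.ZStar.UniqueCase.zstar S h.t h.ht ((hmem _).2 h.t_mem_P)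
    (fun g hg => hiso g ((hmem _).1 hg))
  -- `t` has no fixed points on `N`
  have hfix : ∀ x ∈ N, h.t * x = x * h.t → x = 1 := by
    intro x hx hxt
    obtain ⟨q, rfl⟩ := h.mem_iff.1 hxt.symm
    by_contra hne
    have hq1 : q ≠ 1 := fun h1 => hne (by rw [h1, map_one])
    have hodd : Odd (orderOf q) := by
      rw [← orderOf_injective h.ι h.ι_injective]
      exact hNo.of_dvd_nat (Subgroup.orderOf_dvd_natCard N hx)
    have h3 : q ^ 3 = 1 := by
      rcases order_odd q with h3 | h4 | h6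
      · exact h3
      · refine absurd (orderOf_eq_one_iff.1 (Nat.eq_one_of_dvd_coprimes ?_ dvd_rfl (orderOf_dvd_of_pow_eq_one h4))) hq1
        exact Nat.Coprime.pow_right 2 (Nat.coprime_two_right.2 hodd)
      · refine orderOf_dvd_iff_pow_eq_one.1 ?_
        exact (Nat.coprime_two_right.2 hodd).dvd_of_dvd_mul_left (by simpa using orderOf_dvd_of_pow_eq_one h6)
    obtain ⟨c, hc1, hc2⟩ := odd_normal_trivial q h3 hq1
    set r := c * q * c⁻¹ * q⁻¹ with hr
    have hrN : h.ι r ∈ N := by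
      rw [hr]; simp only [map_mul, map_inv]
      exact N.mul_mem (hNn.conj_mem _ hx _) (N.inv_mem hx)
    have h1 := Nat.eq_one_of_dvd_coprimes (Nat.coprime_two_right.2 hNo)
      (Subgroup.orderOf_dvd_natCard N hrN) (by rw [orderOf_injective h.ι h.ι_injective]; exact orderOf_dvd_of_pow_eq_one hc2)
    rw [orderOf_injective h.ι h.ι_injective, orderOf_eq_one_iff] at h1
    exact hc1 h1
  -- nor has any conjugate of `z`
  have hfixc : ∀ q c : Q, c * qz * c⁻¹ = q → ∀ x ∈ N, h.ι q * x = x * h.ι q → x = 1 := by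
    rintro q c rfl x hx hxq
    have hy : (h.ι c)⁻¹ * x * h.ι c ∈ Subgroup.centralizer ({h.z} : Set G) := by
      rw [Subgroup.mem_centralizer_singleton_iff]
      simp only [map_mul, map_inv] at hxq
      rw [z]
      calc (h.ι c)⁻¹ * x * h.ι c * h.ι qz = (h.ι c)⁻¹ * (x * (h.ι c * h.ι qz * (h.ι c)⁻¹)) * h.ι c := by group
        _ = (h.ι c)⁻¹ * (h.ι c * h.ι qz * (h.ι c)⁻¹ * x) * h.ι c := by rw [hxq]
        _ = _ := by group
    rw [h.centralizer_z] at hy
    have hyN : (h.ι c)⁻¹ * x * h.ι c ∈ N := by simpa using hNn.conj_mem x hx (h.ι c)⁻¹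
    have h1 := Nat.eq_one_of_dvd_coprimes (show Nat.Coprime (Nat.card ↥h.P) (Nat.card ↥N) by
        rw [h.card_P]; exact Nat.Coprime.pow_left 4 (Nat.coprime_two_left.2 hNo))
      (Subgroup.orderOf_dvd_natCard _ hy) (Subgroup.orderOf_dvd_natCard _ hyN)
    rw [orderOf_eq_one_iff] at h1
    calc x = h.ι c * ((h.ι c)⁻¹ * x * h.ι c) * (h.ι c)⁻¹ := by group
      _ = 1 := by rw [h1]; group
  have hinv : ∀ q c : Q, c * qz * c⁻¹ = q → ∀ x ∈ N, h.ι q * x * h.ι q = x⁻¹ := by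
    intro q c hqc
    have hqq : h.ι q * h.ι q = 1 := by
      rw [← map_mul, ← hqc, show c * qz * c⁻¹ * (c * qz * c⁻¹) = c * (qz * qz) * c⁻¹ by group, tau_sq.2.2.1]
      simp
    refine Cfsg.Agent.Lib.SylowInter.CharLocal.inverts_of_fpf hNo hqq (fun x hx => ?_) (hfixc q c hqc)
    have := hNn.conj_mem x hx (h.ι q)
    rwa [inv_eq_of_mul_eq_one_right hqq] at this
  obtain ⟨⟨c₁, hc₁⟩, hvv, c₂, hc₂⟩ := v_facts
  have hNbot : ∀ x ∈ N, x = 1 := by
    intro x hx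
    refine hfixc _ c₂ hc₂ x hx ?_
    have ha := hinv qz 1 (by simp) x hx
    have hb := hinv qv c₁ hc₁ x⁻¹ (N.inv_mem hx)
    rw [inv_inv] at hb
    have hvv' : h.ι qv * h.ι qv = 1 := by rw [← map_mul, hvv, map_one]
    rw [map_mul]
    calc h.ι qz * h.ι qv * x = h.ι qz * h.ι qv * (h.ι qv * x⁻¹ * h.ι qv) := by rw [hb]
      _ = h.ι qz * (h.ι qv * h.ι qv) * x⁻¹ * h.ι qv := by group
      _ = h.ι qz * x⁻¹ * (h.ι qz * h.ι qz) * h.ι qv := by
          rw [hvv', ← map_mul, tau_sq.2.2.1, map_one]; group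
      _ = (h.ι qz * x⁻¹ * h.ι qz) * h.ι qz * h.ι qv := by group
      _ = x * (h.ι qz * h.ι qv) := by
          rw [show h.ι qz * x⁻¹ * h.ι qz = x by simpa using hinv qz 1 (by simp) x⁻¹ (N.inv_mem hx)]
          group
  rw [eq_top_iff]
  intro g _
  rw [Subgroup.mem_centralizer_singleton_iff]
  have h1 := hNbot _ (hN g)
  calc g * h.t = 1 * g * h.t := by group
    _ = (h.t * g * h.t⁻¹ * g⁻¹) * g * h.t := by rw [h1]
    _ = _ := by group

/-- After a twist of the model `t` is conjugate to the transposition. -/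
theorem exists_fused (hne : ¬ ∀ g : G, g * h.t * g⁻¹ ∈ h.P → g * h.t * g⁻¹ = h.t) :
    ∃ h' : Setup G, h'.t = h.t ∧ IsConj h'.t (h'.ι qs) := by
  push Not at hne
  obtain ⟨g, hg, hgt⟩ := hne
  have hconj : IsConj h.t (g * h.t * g⁻¹) := isConj_iff.2 ⟨g, rfl⟩
  obtain ⟨q, -, hq⟩ := hg
  rw [← hq] at hgt hconj
  have hq2 : q * q = 1 := h.ι_injective (by
    rw [map_mul, hq, map_one, show g * h.t * g⁻¹ * (g * h.t * g⁻¹) = g * (h.t * h.t) * g⁻¹ by group, h.t_sq]
    group)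
  have hq1 : q ≠ 1 := by
    intro h1
    rw [h1, map_one] at hq
    have ht := h.ht
    rw [conj_eq_one_iff.1 hq.symm, orderOf_one] at ht
    norm_num at ht
  rcases involution_cases q hq2 hq1 with rfl | ⟨c, rfl⟩ | ⟨c, rfl⟩ | ⟨c, rfl⟩ | ⟨c, rfl⟩
  · exact absurd h.ι_tau hgt
  · exact absurd ((h.ι_conj c qz).trans hconj.symm) h.z_ne_t
  · exact absurd (hconj.trans (h.ι_conj c (tau * qz)).symm) h.t_ne_tz
  · exact ⟨h, rfl, hconj.trans (h.ι_conj c qs).symm⟩
  · refine ⟨{ h with e := h.e.trans twist }, rfl, ?_⟩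
    have h1 := hconj.trans (h.ι_conj c (tau * qs)).symm
    show IsConj h.t ((h.e.trans twist).symm qs : G)
    rw [MulEquiv.symm_trans_apply, twist_facts.2.2.2]
    exact h1

variable (hs : IsConj h.t (h.ι qs))
include hs

theorem fusion : ¬ IsConj h.t (h.ι (tau * qs)) ∧ IsConj h.z (h.ι (tau * qs)) := by
  obtain ⟨g, hg⟩ := isConj_iff.1 hs.symm
  obtain ⟨hz, hcomm, hne, hne1, hne2, ⟨cs, hcs⟩, ⟨cts, hcts⟩, hne3, hne4⟩ := small_facts
  have himg : ∀ q : Q, q * qs = qs * q → ∃ a, h.ι a = g * h.ι q * g⁻¹ := by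
    intro q hq
    refine h.mem_iff.1 ?_
    have := congrArg h.ι hq
    rw [map_mul, map_mul] at this
    rw [← hg]
    calc g * h.ι q * g⁻¹ * (g * h.ι qs * g⁻¹) = g * (h.ι q * h.ι qs) * g⁻¹ := by group
      _ = g * (h.ι qs * h.ι q) * g⁻¹ := by rw [this]
      _ = _ := by group
  obtain ⟨a, ha⟩ := himg tau (tau_central qs).symm
  obtain ⟨b, hb⟩ := himg qs' hcomm.symm
  have key : ∀ q a : Q, h.ι a = g * h.ι q * g⁻¹ → IsConj (h.ι q) (h.ι a) := fun q a ha =>
    isConj_iff.2 ⟨g, ha.symm⟩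
  have hA : IsConj h.t (h.ι a) := by have := key _ _ ha; rwa [h.ι_tau] at this
  have hB : IsConj h.t (h.ι b) := (hs.trans (hcs ▸ h.ι_conj cs qs)).trans (key _ _ hb)
  have hab : h.ι (a * b) = g * h.ι (tau * qs') * g⁻¹ := by
    rw [map_mul, ha, hb, map_mul]; group
  have hinj : ∀ q q' : Q, g * h.ι q * g⁻¹ = g * h.ι q' * g⁻¹ → q = q' := fun q q' e =>
    h.ι_injective (mul_left_cancel (mul_right_cancel e))
  have hcls : ∀ (x p : Q), h.ι x = g * h.ι p * g⁻¹ → p * p = 1 → p ≠ qs → IsConj h.t (h.ι x) →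
      (∃ c, c * qs * c⁻¹ = x) ∨ (∃ c, c * (tau * qs) * c⁻¹ = x) := by
    intro x p hxp hp2 hps hxt
    have hx2 : x * x = 1 := h.ι_injective (by
      rw [map_mul, hxp, map_one, show g * h.ι p * g⁻¹ * (g * h.ι p * g⁻¹) = g * (h.ι p * h.ι p) * g⁻¹ by group,
        ← map_mul, hp2, map_one]
      group)
    have hx1 : x ≠ 1 := by
      intro h1
      rw [h1, map_one] at hxt
      obtain ⟨k, hk⟩ := isConj_iff.1 hxt
      have ht := h.ht
      rw [conj_eq_one_iff.1 hk, orderOf_one] at ht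
      norm_num at ht
    rcases involution_cases x hx2 hx1 with rfl | ⟨c, rfl⟩ | ⟨c, rfl⟩ | h4
    · exact absurd (hinj _ _ (hxp.symm.trans (h.ι_tau.trans hg.symm))) hps
    · exact absurd ((hxt.trans (h.ι_conj c qz).symm).symm) h.z_ne_t
    · exact absurd (hxt.trans (h.ι_conj c (tau * qz)).symm) h.t_ne_tz
    · exact h4
  have hqs2 : qs' * qs' = 1 := by decide
  have ha' := hcls a tau ha tau_sq.1 hne1 hA
  have hb' := hcls b qs' hb hqs2 hne.symm hB
  have hcab : a * b = b * a := h.ι_injective (by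
    rw [hab, map_mul h.ι b a, ha, hb, tau_central qs' |>.symm, map_mul]; group)
  have hab_ne : a ≠ b := fun e => hne2 (hinj _ _ (by rw [← ha, ← hb, e]))
  have hnts : ¬ IsConj h.t (h.ι (tau * qs)) := by
    intro hts
    have h1 : IsConj h.t (h.ι (a * b)) := (hts.trans (hcts ▸ h.ι_conj cts (tau * qs))).trans (key _ _ hab)
    have h2 : a * b ≠ tau := fun e =>
      hne3 (hinj _ _ (hab.symm.trans ((congrArg h.ι e).trans (h.ι_tau.trans hg.symm))))
    rcases pair_cases' a b ha' hb' hcab hab_ne h2 with ⟨c, hc⟩ | ⟨c, hc⟩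
    · exact h.z_ne_t ((h.ι_conj c qz).trans (hc ▸ h1.symm))
    · exact h.t_ne_tz (h1.trans (hc ▸ (h.ι_conj c (tau * qz)).symm))
  refine ⟨hnts, ?_⟩
  have hsel : ∀ x : Q, IsConj h.t (h.ι x) →
      (∃ c, c * qs * c⁻¹ = x) ∨ (∃ c, c * (tau * qs) * c⁻¹ = x) → ∃ c, c * qs * c⁻¹ = x := by
    intro x hx h4
    rcases h4 with h4 | ⟨c, rfl⟩
    · exact h4
    · exact absurd (hx.trans (h.ι_conj c _).symm) hnts
  obtain ⟨⟨c, hc⟩, -⟩ := pair_cases a b (hsel a hA ha') (hsel b hB hb') hcab hab_ne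
  have h3 : h.ι (tau * b) = g * h.ι qz * g⁻¹ := by
    rw [map_mul, hb, h.ι_tau, ← hz, ← hg, map_mul]; group
  exact (key _ _ h3).trans (hc ▸ (h.ι_conj c (tau * qs)).symm)

/-- The classes of involutions in the Sylow subgroup. -/
theorem classes {q : Q} (h2 : q * q = 1) (h1 : q ≠ 1) :
    (IsConj h.t (h.ι q) ∧ lam q ≠ 1) ∨ (IsConj h.z (h.ι q) ∧ lam q = 1) ∨
      (IsConj (h.ι (tau * qz)) (h.ι q) ∧ lam q ≠ 1) := by
  have hne : (Multiplicative.ofAdd (1 : ZMod 2)) ≠ 1 := by decide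
  obtain ⟨l1, l2, l3, l4, l5, -⟩ := lam_facts
  have hl : ∀ c x : Q, lam (c * x * c⁻¹) = lam x := fun c x => by
    rw [map_mul, map_mul, map_inv, mul_comm (lam c), mul_inv_cancel_right]
  rcases involution_cases q h2 h1 with rfl | ⟨c, rfl⟩ | ⟨c, rfl⟩ | ⟨c, rfl⟩ | ⟨c, rfl⟩
  · exact Or.inl ⟨by rw [h.ι_tau], l1 ▸ hne⟩
  · exact Or.inr (Or.inl ⟨h.ι_conj c qz, by rw [hl, l3]⟩)
  · exact Or.inr (Or.inr ⟨h.ι_conj c _, by rw [hl, l5]; exact hne⟩)
  · exact Or.inl ⟨hs.trans (h.ι_conj c qs), by rw [hl, l2]; exact hne⟩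
  · exact Or.inr (Or.inl ⟨(h.fusion hs).2.trans (h.ι_conj c _), by rw [hl, l4]⟩)

/-- Conjugate involutions of the Sylow subgroup have the same `lam`. -/
theorem lam_eq {p q : Q} (hp : p * p = 1) (hp1 : p ≠ 1) (hq : q * q = 1) (hq1 : q ≠ 1)
    (hc : IsConj (h.ι p) (h.ι q)) : lam p = lam q := by
  have two : ∀ a b : Multiplicative (ZMod 2), a ≠ 1 → b ≠ 1 → a = b := by decide
  rcases h.classes hs hp hp1 with ⟨a, la⟩ | ⟨a, la⟩ | ⟨a, la⟩ <;>
    rcases h.classes hs hq hq1 with ⟨b, lb⟩ | ⟨b, lb⟩ | ⟨b, lb⟩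
  · exact two _ _ la lb
  · exact absurd (((a.trans hc).trans b.symm)).symm h.z_ne_t
  · exact two _ _ la lb
  · exact absurd ((a.trans hc).trans b.symm) h.z_ne_t
  · rw [la, lb]
  · exact absurd ((a.trans hc).trans b.symm).symm h.tz_ne_z
  · exact two _ _ la lb
  · exact absurd ((a.trans hc).trans b.symm) h.tz_ne_z
  · exact two _ _ la lb

/-- The transfer to the Sylow subgroup. -/
theorem exists_char : ∃ V : G →* Multiplicative (ZMod 2),
    ∀ q : Q, q * qz = qz * q → q * q = 1 → V (h.ι q) = lam q := by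
  classical
  have hPC : h.P ≤ Subgroup.centralizer ({h.t} : Set G) := by
    rintro _ ⟨q, -, rfl⟩; exact (h.e.symm q).2
  let φ : ↥h.P →* Multiplicative (ZMod 2) :=
    (lam.comp h.e.toMonoidHom).comp (Subgroup.inclusion hPC)
  have hφ : ∀ (r : Q) (hr : h.ι r ∈ h.P), φ ⟨h.ι r, hr⟩ = lam r := by
    intro r hr
    show lam (h.e ⟨h.ι r, _⟩) = lam r
    exact congrArg lam (h.e.apply_eq_iff_eq_symm_apply.2 (Subtype.ext rfl))
  refine ⟨MonoidHom.transfer φ, fun q hq hq2 => ?_⟩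
  by_cases hq1 : q = 1
  · subst hq1; simp
  have hqP : h.ι q ∈ h.P := h.mem_P.2 hq
  rw [Cfsg.Agent.Lib.Fusion.Thompson.transfer_controlled φ (h.ι q) hqP]
  · rw [hφ]
    obtain ⟨S, hS⟩ := h.exists_sylow
    have hodd : Odd h.P.index := by
      haveI := Fact.mk Nat.prime_two
      rw [← hS, Nat.odd_iff, ← Nat.two_dvd_ne_zero]; exact S.not_dvd_index
    have h22 : lam q ^ 2 = 1 := by rw [← map_pow, pow_two, hq2, map_one]
    obtain ⟨k, hk⟩ := hodd
    rw [hk, pow_succ, pow_mul, h22, one_pow, one_mul]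
  · intro m a ha
    rw [hφ]
    obtain ⟨r, hr, hra⟩ := id ha
    rcases Nat.even_or_odd m with ⟨k, rfl⟩ | ⟨k, rfl⟩
    · have hpq : ∀ x : Multiplicative (ZMod 2), x ^ (k + k) = 1 := fun x => by
        have h2 : x * x = 1 := (show ∀ y : Multiplicative (ZMod 2), y * y = 1 by decide) x
        rw [← two_mul, pow_mul, pow_two, h2, one_pow]
      have hm : a * h.ι q ^ (k + k) * a⁻¹ = 1 := by
        rw [← map_pow, ← two_mul, pow_mul, pow_two q, hq2, one_pow, map_one]; group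
      rw [hpq]
      refine (congrArg φ (Subtype.ext hm : (⟨_, ha⟩ : ↥h.P) = 1)).trans (map_one φ)
    · have hm : a * h.ι q ^ (2 * k + 1) * a⁻¹ = a * h.ι q * a⁻¹ := by
        rw [← map_pow, pow_succ, pow_mul, pow_two q, hq2, one_pow, one_mul]
      have hlq : lam q ^ (2 * k + 1) = lam q := by
        rw [← map_pow, pow_succ, pow_mul, pow_two q, hq2, one_pow, one_mul]
      rw [hlq]
      rw [hm] at hra
      have hr2 : r * r = 1 := h.ι_injective (by
        rw [map_mul, hra, map_one, show a * h.ι q * a⁻¹ * (a * h.ι q * a⁻¹) = a * (h.ι q * h.ι q) * a⁻¹ by group,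
          ← map_mul, hq2, map_one]
        group)
      have hr1 : r ≠ 1 := by
        intro e
        rw [e, map_one, eq_comm, conj_eq_one_iff, ← map_one h.ι] at hra
        exact hq1 (h.ι_injective hra)
      calc φ ⟨_, ha⟩ = φ ⟨h.ι r, h.mem_P.2 (mem_sylQ.1 hr)⟩ := congrArg φ (Subtype.ext (hm.trans hra.symm))
        _ = lam r := hφ r _
        _ = lam q := (h.lam_eq hs hq2 hq1 hr2 hr1 (isConj_iff.2 ⟨a, hra.symm⟩)).symm

end Setup

end Cfsg.Agent.Lib.TwoSymFour12
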