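import Cfsg.Agent.Lib.TwoSymFour12.Fusion
import Cfsg.Agent.Lib.TwoSymFour12.AltSixAut
import Cfsg.Agent.Lib.DihedralCentralizer.Classify
import Cfsg.Agent.Lib.Characters.Complete
import Cfsg.Agent.S0497

/-!
The fused case gives `S₆`.
-/

set_option autoImplicit false

set_option synthInstance.maxSize 4096
set_option synthInstance.maxHeartbeats 400000

namespace Cfsg.Agent.Lib.TwoSymFour12

open Equiv

universe u

theorem sylQ_gen : ∀ q : Q, q * qz = qz * q →
    ∃ a b : Q, q = a * b ∧ (a * qz = qz * a ∧ a * a = 1) ∧ (b * qz = qz * b ∧ b * b = 1) := by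
  decide +kernel

theorem card_tclass : Nat.card {q : Q // q = tau ∨ ∃ c, c * qs * c⁻¹ = q} = 7 := by
  rw [Nat.card_eq_fintype_card]; decide +kernel

theorem card_kernel : Nat.card {q : Q // lam q = 1} = 24 := by
  rw [Nat.card_eq_fintype_card]; decide +kernel

variable {G : Type u} [Group G] [Finite G]

namespace Setup

variable (h : Setup G) (hs : IsConj h.t (h.ι qs))
include hs

theorem char_eq {V : G →* Multiplicative (ZMod 2)}
    (hV : ∀ q : Q, q * qz = qz * q → q * q = 1 → V (h.ι q) = lam q) (q : Q) : V (h.ι q) = lam q := by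
  set L := MonoidHom.eqLocus (V.comp h.ι) lam with hL
  have hP : sylQ ≤ L := by
    intro x hx
    obtain ⟨a, b, rfl, ⟨ha, ha2⟩, hb, hb2⟩ := sylQ_gen x (mem_sylQ.1 hx)
    exact L.mul_mem (hV a ha ha2) (hV b hb hb2)
  have hk : qk ∈ L := by
    have key : ∀ x : Multiplicative (ZMod 2), x ^ 3 = 1 → x = 1 := by decide
    show V (h.ι qk) = lam qk
    rw [lam_facts.2.2.2.2.2]
    exact key _ (by rw [← map_pow, ← map_pow, qk_facts.1, map_one, map_one])
  have h16 : 16 ∣ Nat.card L := card_sylQ ▸ Subgroup.card_dvd_of_le hP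
  have h3 : 3 ∣ Nat.card L := by
    haveI := Fact.mk Nat.prime_three
    rw [← orderOf_eq_prime qk_facts.1 qk_facts.2.1]
    exact Subgroup.orderOf_dvd_natCard L hk
  have htop : L = ⊤ := Subgroup.eq_top_of_le_card L (by
    rw [card_Q]
    exact Nat.le_of_dvd Nat.card_pos (Nat.Coprime.mul_dvd_of_dvd_of_dvd (by norm_num) h16 h3))
  have hq : q ∈ L := by rw [htop]; trivial
  exact hq

/-- The fused configuration is `S₆`. -/
theorem equiv_symSix : Nonempty (G ≃* Perm (Fin 6)) := by
  classical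
  obtain ⟨V, hV'⟩ := h.exists_char hs
  have hV := h.char_eq hs hV'
  have hone : (Multiplicative.ofAdd (1 : ZMod 2)) ≠ 1 := by decide
  have h11 : (Multiplicative.ofAdd (1 : ZMod 2)) * Multiplicative.ofAdd 1 = 1 := by decide
  have htwo : ∀ x : Multiplicative (ZMod 2), x ≠ 1 → x = Multiplicative.ofAdd 1 := by decide
  set N := V.ker with hNdef
  have hVt : V h.t = Multiplicative.ofAdd 1 := by rw [← h.ι_tau, hV, lam_facts.1]
  have htN : h.t ∉ N := fun hh => hone (hVt.symm.trans hh)
  have hidx : N.index = 2 := by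
    have hsurj : Function.Surjective V := by
      intro x
      by_cases hx : x = 1
      · exact ⟨1, by rw [map_one, hx]⟩
      · exact ⟨h.t, by rw [hVt, htwo x hx]⟩
    rw [hNdef, Subgroup.index_ker, MonoidHom.range_eq_top.2 hsurj, Subgroup.card_top,
      Nat.card_eq_fintype_card, Fintype.card_multiplicative, ZMod.card]
  have hzN : h.z ∈ N := by rw [hNdef, MonoidHom.mem_ker, z, hV, lam_facts.2.2.1]
  set zH : ↥N := ⟨h.z, hzN⟩ with hzH
  have hzHo : orderOf zH = 2 := orderOf_eq_prime (by rw [pow_two]; exact Subtype.ext h.z_sq)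
    (fun e => tau_sq.2.2.2 (h.ι_injective ((congrArg Subtype.val e).trans (map_one h.ι).symm)))
  -- the centraliser of `z` in `N`
  have hmemN : ∀ a, h.ι (dihQ a) ∈ N := fun a => by
    rw [hNdef, MonoidHom.mem_ker, hV, (dihQ_mem a).2]
  let D : DihedralGroup 4 →* ↥(Subgroup.centralizer ({zH} : Set ↥N)) :=
    MonoidHom.mk' (fun a => ⟨⟨h.ι (dihQ a), hmemN a⟩, Subgroup.mem_centralizer_singleton_iff.2 (Subtype.ext (by
        show h.ι (dihQ a) * h.ι qz = h.ι qz * h.ι (dihQ a)
        rw [← map_mul, ← map_mul, (dihQ_mem a).1]))⟩)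
      fun a b => Subtype.ext (Subtype.ext (by
        show h.ι (dihQ (a * b)) = h.ι (dihQ a) * h.ι (dihQ b)
        rw [dihQ_mul, map_mul]))
  have hD : Function.Bijective D := by
    constructor
    · intro a b hab
      have h1 := congrArg Subtype.val hab
      have h2 := congrArg Subtype.val h1
      exact dihQ_injective a b (h.ι_injective h2)
    · rintro ⟨⟨x, hxN⟩, hx⟩
      have hxz : x ∈ Subgroup.centralizer ({h.z} : Set G) :=
        Subgroup.mem_centralizer_singleton_iff.2 (congrArg Subtype.val (Subgroup.mem_centralizer_singleton_iff.1 hx))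
      rw [h.centralizer_z] at hxz
      obtain ⟨q, hq, rfl⟩ := hxz
      obtain ⟨a, rfl⟩ := dihQ_surj q (mem_sylQ.1 hq) (by rw [← hV]; exact hxN)
      exact ⟨a, rfl⟩
  let eD := (MulEquiv.ofBijective D hD).symm
  obtain ⟨S, hS⟩ := h.exists_sylow
  have hGN : Nat.card G = Nat.card ↥N * 2 := by rw [← Subgroup.card_mul_index N, hidx]
  -- the involutions of `N` are conjugate
  have hconjN : ∀ x : ↥N, orderOf x = 2 → IsConj zH x := by
    intro x hx
    haveI := Fact.mk Nat.prime_two
    have hxG : orderOf (x : G) = 2 := by rwa [Subgroup.orderOf_coe]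
    obtain ⟨R, hR⟩ := (IsPGroup.of_card (p := 2) (G := ↥(Subgroup.zpowers (x : G))) (n := 1)
      (by rw [Nat.card_zpowers, hxG]; rfl)).exists_le_sylow
    obtain ⟨k, hk⟩ := MulAction.exists_smul_eq G R S
    have hkx : k * (x : G) * k⁻¹ ∈ h.P := by
      rw [← hS, ← hk, Sylow.coe_subgroup_smul]
      exact ⟨x, hR (Subgroup.mem_zpowers _), rfl⟩
    obtain ⟨q, -, hq⟩ := hkx
    have hx1 : (x : G) ≠ 1 := fun e => by rw [e, orderOf_one] at hxG; norm_num at hxG
    have hq2 : q * q = 1 := h.ι_injective (by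
      rw [map_mul, hq, map_one, show k * (x : G) * k⁻¹ * (k * (x : G) * k⁻¹) = k * ((x : G) ^ 2) * k⁻¹ by
        rw [pow_two]; group, ← hxG, pow_orderOf_eq_one]
      group)
    have hq1 : q ≠ 1 := fun e => hx1 (by
      rw [e, map_one] at hq
      exact conj_eq_one_iff.1 hq.symm)
    have hlq : lam q = 1 := by
      rw [← hV, hq, map_mul, map_mul, map_inv, show V (x : G) = 1 from x.2, mul_one, mul_inv_cancel]
    have hzx : IsConj h.z (x : G) := by
      rcases h.classes hs hq2 hq1 with ⟨-, l⟩ | ⟨a, -⟩ | ⟨-, l⟩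
      · exact absurd hlq l
      · exact a.trans (isConj_iff.2 ⟨k⁻¹, by rw [hq]; group⟩)
      · exact absurd hlq l
    obtain ⟨g, hg⟩ := isConj_iff.1 hzx
    have htz : h.t * h.z = h.z * h.t := by rw [z, ← h.ι_tau, ← map_mul, ← map_mul, tau_central qz]
    by_cases hgN : g ∈ N
    · exact isConj_iff.2 ⟨⟨g, hgN⟩, Subtype.ext hg⟩
    · have hgtN : g * h.t ∈ N := by
        rw [hNdef, MonoidHom.mem_ker, map_mul, htwo _ (fun e => hgN e), hVt]; exact h11
      refine isConj_iff.2 ⟨⟨g * h.t, hgtN⟩, Subtype.ext ?_⟩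
      show g * h.t * h.z * (g * h.t)⁻¹ = (x : G)
      calc g * h.t * h.z * (g * h.t)⁻¹ = g * (h.t * h.z) * h.t⁻¹ * g⁻¹ := by group
        _ = g * h.z * g⁻¹ := by rw [htz]; group
        _ = (x : G) := hg
  -- `N` has no subgroup of index two
  have hno : ∀ H : Subgroup ↥N, H.index ≠ 2 := by
    intro H hH
    haveI := Fact.mk Nat.prime_two
    haveI : H.Normal := Subgroup.normal_of_index_eq_two hH
    have hz : zH ∈ H := by
      have := Subgroup.mul_self_mem_of_index_two hH (Cfsg.Agent.Lib.DihedralCentralizer.rot eD)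
      rwa [Cfsg.Agent.Lib.DihedralCentralizer.rot_sq eD hzHo] at this
    have hinv : ∀ a : Q, a * a = 1 → lam a = 1 → ∀ hm : h.ι a ∈ N, (⟨h.ι a, hm⟩ : ↥N) ∈ H := by
      intro a ha2 hal hm
      by_cases ha1 : a = 1
      · have : (⟨h.ι a, hm⟩ : ↥N) = 1 := Subtype.ext (by simp [ha1])
        rw [this]; exact H.one_mem
      · obtain ⟨c, hc⟩ := isConj_iff.1 (hconjN ⟨h.ι a, hm⟩ (orderOf_eq_prime
          (by rw [pow_two]; exact Subtype.ext (show h.ι a * h.ι a = 1 by rw [← map_mul, ha2, map_one]))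
          (fun e => ha1 (h.ι_injective ((congrArg Subtype.val e).trans (map_one h.ι).symm)))))
        rw [← hc]
        exact ‹H.Normal›.conj_mem _ hz _
    have hle : Subgroup.centralizer ({zH} : Set ↥N) ≤ H := by
      intro x hx
      obtain ⟨a, ha⟩ := hD.2 ⟨x, hx⟩
      have hxa : x = ⟨h.ι (dihQ a), hmemN a⟩ := (congrArg Subtype.val ha).symm
      rw [hxa]
      obtain ⟨p, r, hpr, ⟨-, hp2, hpl⟩, -, hr2, hrl⟩ := lam_ker_gen _ (dihQ_mem a).1 (dihQ_mem a).2
      have hpN : h.ι p ∈ N := by rw [hNdef, MonoidHom.mem_ker, hV, hpl]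
      have hrN : h.ι r ∈ N := by rw [hNdef, MonoidHom.mem_ker, hV, hrl]
      have : (⟨h.ι (dihQ a), hmemN a⟩ : ↥N) = ⟨h.ι p, hpN⟩ * ⟨h.ι r, hrN⟩ :=
        Subtype.ext (show h.ι (dihQ a) = h.ι p * h.ι r by rw [hpr, map_mul])
      rw [this]
      exact H.mul_mem (hinv p hp2 hpl hpN) (hinv r hr2 hrl hrN)
    have h8 : 8 ∣ Nat.card ↥H := Cfsg.Agent.Lib.DihedralCentralizer.card_centralizer eD ▸ Subgroup.card_dvd_of_le hle
    have h32 : 2 ^ 5 ∣ Nat.card G := by
      rw [hGN, ← Subgroup.card_mul_index H, hH, mul_assoc]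
      rw [show (2 : ℕ) ^ 5 = 8 * 4 from rfl]
      exact Nat.mul_dvd_mul h8 (dvd_refl 4)
    have h5 := (Nat.Prime.pow_dvd_iff_le_factorization Nat.prime_two Nat.card_pos.ne').1 h32
    have hmult := S.card_eq_multiplicity
    rw [hS, h.card_P, show (16 : ℕ) = 2 ^ 4 from rfl] at hmult
    have := Nat.pow_right_injective (le_refl 2) hmult
    omega
  obtain ⟨hsimp, h168 | h360⟩ := Cfsg.Agent.Lib.DihedralCentralizer.simple_order hzHo eD hno
  · -- order 168 is impossible
    exfalso
    have hcl : Nat.card {x : G // IsConj h.t x} = 7 := by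
      have := Cfsg.Agent.Lib.Characters.Complete.card_conjugates_mul_centralizer h.t
      rw [h.card_C, hGN, h168] at this
      omega
    let f : {q : Q // q = tau ∨ ∃ c, c * qs * c⁻¹ = q} → {x : G // IsConj h.t x} := fun q => ⟨h.ι q.1, by
      rcases q.2 with e | ⟨c, hc⟩
      · rw [e, h.ι_tau]
      · exact hs.trans (hc ▸ h.ι_conj c qs)⟩
    have hf : Function.Bijective f := (Nat.bijective_iff_injective_and_card f).2
      ⟨fun a b hab => by
        have h1 := congrArg Subtype.val hab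
        exact Subtype.ext (h.ι_injective h1), by rw [card_tclass, hcl]⟩
    have hall : ∀ y : G, IsConj h.t y → y * h.t = h.t * y := fun y hy => by
      obtain ⟨q, hq⟩ := hf.2 ⟨y, hy⟩
      exact h.mem_iff.2 ⟨q.1, congrArg Subtype.val hq⟩
    obtain ⟨g, hg⟩ := isConj_iff.1 hs
    have hcomm : ∀ y, IsConj h.t y → y * h.ι qs = h.ι qs * y := by
      intro y hy
      have h1 := hall (g⁻¹ * y * g) (hy.trans (isConj_iff.2 ⟨g⁻¹, by group⟩))
      rw [← hg]
      calc y * (g * h.t * g⁻¹) = g * (g⁻¹ * y * g * h.t) * g⁻¹ := by group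
        _ = g * (h.t * (g⁻¹ * y * g)) * g⁻¹ := by rw [h1]
        _ = _ := by group
    obtain ⟨c, hc⟩ := noncommuting
    refine hc (h.ι_injective ?_)
    rw [map_mul, map_mul h.ι (c * qs * c⁻¹)]
    exact (hcomm _ (hs.trans (h.ι_conj c qs))).symm
  · -- order 360
    haveI := hsimp
    obtain ⟨e0⟩ := Cfsg.Agent.S0497.result (G := ↥N) h360
    let ψ : G →* MulAut ↥(alternatingGroup (Fin 6)) :=
      (MulAut.congr e0).toMonoidHom.comp (MulAut.conjNormal (H := N))
    have hψ : ∀ g a, ψ g a = e0 (MulAut.conjNormal g (e0.symm a)) := fun g a => rfl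
    have hqk : h.ι qk ∈ N := by rw [hNdef, MonoidHom.mem_ker, hV, lam_facts.2.2.2.2.2]
    obtain ⟨σt, hσt⟩ := exists_conjNormal (ψ h.t) (x := e0 ⟨h.ι qk, hqk⟩)
      (by rw [← map_pow, show (⟨h.ι qk, hqk⟩ : ↥N) ^ 3 = 1 from
        Subtype.ext (by simp [← map_pow, qk_facts.1]), map_one])
      (fun e => qk_facts.2.1 (h.ι_injective ((congrArg Subtype.val ((MulEquiv.map_eq_one_iff e0).1 e)).trans
        (map_one h.ι).symm)))
      (by
        rw [hψ, e0.symm_apply_apply]
        refine congrArg e0 (Subtype.ext ?_)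
        rw [MulAut.conjNormal_apply, ← h.ι_tau, ← map_inv, ← map_mul, ← map_mul]
        exact congrArg h.ι (mul_inv_eq_iff_eq_mul.2 qk_facts.2.2.symm))
    have hrange : ∀ g, ψ g ∈ (MulAut.conjNormal (H := alternatingGroup (Fin 6))).range := by
      have hin : ∀ n ∈ N, ψ n ∈ (MulAut.conjNormal (H := alternatingGroup (Fin 6))).range := by
        intro n hn
        refine ⟨(e0 ⟨n, hn⟩ : Perm (Fin 6)), MulEquiv.ext fun a => Subtype.ext ?_⟩
        rw [MulAut.conjNormal_apply, hψ,
          show MulAut.conjNormal n (e0.symm a) = (⟨n, hn⟩ : ↥N) * e0.symm a * (⟨n, hn⟩ : ↥N)⁻¹ from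
            Subtype.ext (by simp [MulAut.conjNormal_apply]), map_mul, map_mul, map_inv, e0.apply_symm_apply]
        rfl
      intro g
      by_cases hg : g ∈ N
      · exact hin g hg
      · have hm : h.t * g ∈ N := by
          rw [hNdef, MonoidHom.mem_ker, map_mul, htwo _ (fun e => hg e), hVt]; exact h11
        have : ψ g = ψ h.t * ψ (h.t * g) := by rw [← map_mul, ← mul_assoc, h.t_sq, one_mul]
        rw [this]
        exact Subgroup.mul_mem _ ⟨σt, hσt⟩ (hin _ hm)
    let θ : G →* Perm (Fin 6) :=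
      (MonoidHom.ofInjective conjNormal_injective).symm.toMonoidHom.comp (ψ.codRestrict _ hrange)
    have hkerψ : ∀ c, ψ c = 1 → ∀ n ∈ N, c * n * c⁻¹ = n := by
      intro c hc n hn
      have h1 := congrArg (fun φ : MulAut ↥(alternatingGroup (Fin 6)) => φ (e0 ⟨n, hn⟩)) hc
      simp only [hψ, e0.symm_apply_apply, MulAut.one_apply] at h1
      exact (MulAut.conjNormal_apply c ⟨n, hn⟩).symm.trans (congrArg Subtype.val (e0.injective h1))
    have hker : ∀ c, ψ c = 1 → c = 1 := by
      intro c hc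
      by_contra hc1
      have hcz : c ∈ Subgroup.centralizer ({h.z} : Set G) :=
        Subgroup.mem_centralizer_singleton_iff.2 (mul_inv_eq_iff_eq_mul.1 (hkerψ c hc _ hzN))
      rw [h.centralizer_z] at hcz
      obtain ⟨q, hq, rfl⟩ := hcz
      have hck := mul_inv_eq_iff_eq_mul.1 (hkerψ _ hc _ hqk)
      rw [← map_mul, ← map_mul] at hck
      by_cases hlq : lam q = 1
      · -- `q` would be central in the simple group
        have hqN : h.ι q ∈ N := by rw [hNdef, MonoidHom.mem_ker, hV, hlq]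
        have hcen : (⟨h.ι q, hqN⟩ : ↥N) ∈ Subgroup.center ↥N := Subgroup.mem_center_iff.2 fun n =>
          Subtype.ext (mul_inv_eq_iff_eq_mul.1 (hkerψ _ hc _ n.2)).symm
        rcases IsSimpleGroup.eq_bot_or_eq_top_of_normal (Subgroup.center ↥N) inferInstance with e | e
        · rw [e, Subgroup.mem_bot] at hcen
          exact hc1 (congrArg Subtype.val hcen)
        · have hzc : zH ∈ Subgroup.center ↥N := by rw [e]; trivial
          have hall : Subgroup.centralizer ({zH} : Set ↥N) = ⊤ := eq_top_iff.2 fun n _ =>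
            Subgroup.mem_centralizer_singleton_iff.2 (Subgroup.mem_center_iff.1 hzc n)
          have h8 := Cfsg.Agent.Lib.DihedralCentralizer.card_centralizer eD
          rw [hall, Subgroup.card_top, h360] at h8
          omega
      · have hqt := kernel_central q (mem_sylQ.1 hq) (h.ι_injective hck) hlq
        subst hqt
        have hsub : ∀ n ∈ N, ∃ p : {p : Q // lam p = 1}, h.ι p.1 = n := by
          intro n hn
          have hnt := mul_inv_eq_iff_eq_mul.1 (hkerψ _ hc n hn)
          rw [h.ι_tau] at hnt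
          obtain ⟨p, hp⟩ := h.mem_iff.1 hnt.symm
          exact ⟨⟨p, by rw [← hV, hp]; exact hn⟩, hp⟩
        have hle : Nat.card ↥N ≤ Nat.card {p : Q // lam p = 1} := by
          refine Nat.card_le_card_of_injective (fun n => Classical.choose (hsub n n.2)) fun a b hab => ?_
          refine Subtype.ext ?_
          rw [← Classical.choose_spec (hsub a a.2), ← Classical.choose_spec (hsub b b.2)]
          exact congrArg (fun p : {p : Q // lam p = 1} => h.ι p.1) hab
        rw [h360, card_kernel] at hle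
        omega
    have hθ : Function.Injective θ := by
      rw [← MonoidHom.ker_eq_bot_iff, Subgroup.eq_bot_iff_forall]
      intro c hc
      refine hker c ?_
      have h1 : ψ.codRestrict _ hrange c = 1 :=
        (MonoidHom.ofInjective conjNormal_injective).symm.injective (hc.trans (map_one _).symm)
      exact congrArg Subtype.val h1
    refine ⟨MulEquiv.ofBijective θ ((Nat.bijective_iff_injective_and_card θ).2 ⟨hθ, ?_⟩)⟩
    rw [hGN, h360, Nat.card_perm, Nat.card_eq_fintype_card, Fintype.card_fin]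
    rfl

end Setup

end Cfsg.Agent.Lib.TwoSymFour12
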