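import Cfsg.Agent.Lib.TwoSymFour12.Data

/-!
A 2-central involution with centraliser `Z₂ × S₄` such that Sylow 2-subgroups are the centralisers
of their derived subgroups.
-/

set_option autoImplicit false

namespace Cfsg.Agent.Lib.TwoSymFour12

variable {G : Type*} [Group G] [Finite G]

/-- The configuration. -/
structure Setup (G : Type*) [Group G] where
  t : G
  ht : orderOf t = 2
  e : ↥(Subgroup.centralizer ({t} : Set G)) ≃* Q
  hT : ∃ T : Sylow 2 G, (T : Subgroup G) ≤ Subgroup.centralizer ({t} : Set G)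
  h2 : ∀ S : Sylow 2 G,
    Subgroup.centralizer ((⁅(S : Subgroup G), (S : Subgroup G)⁆ : Subgroup G) : Set G) = (S : Subgroup G)

namespace Setup

variable (h : Setup G)

/-- The embedding of the model. -/
def ι : Q →* G := (Subgroup.centralizer ({h.t} : Set G)).subtype.comp h.e.symm.toMonoidHom

omit [Finite G] in
theorem ι_injective : Function.Injective h.ι :=
  Subtype.val_injective.comp h.e.symm.injective

omit [Finite G] in
theorem mem_iff {x : G} : x * h.t = h.t * x ↔ ∃ q, h.ι q = x := by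
  constructor
  · intro hx
    exact ⟨h.e ⟨x, Subgroup.mem_centralizer_singleton_iff.2 hx⟩, by simp [ι]⟩
  · rintro ⟨q, rfl⟩
    exact Subgroup.mem_centralizer_singleton_iff.1 (h.e.symm q).2

omit [Finite G] in
theorem ι_conj (c q : Q) : IsConj (h.ι q) (h.ι (c * q * c⁻¹)) :=
  isConj_iff.2 ⟨h.ι c, by simp [map_mul]⟩

omit [Finite G] in
theorem ι_tau : h.ι tau = h.t := by
  have htC : h.t ∈ Subgroup.centralizer ({h.t} : Set G) := Subgroup.mem_centralizer_singleton_iff.2 rfl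
  have hcen : ∀ r, h.e ⟨h.t, htC⟩ * r = r * h.e ⟨h.t, htC⟩ := by
    intro r
    obtain ⟨c, rfl⟩ := h.e.surjective r
    rw [← map_mul, ← map_mul]
    exact congrArg h.e (Subtype.ext (Subgroup.mem_centralizer_singleton_iff.1 c.2).symm)
  rcases center_cases _ hcen with h1 | h1
  · have := congrArg Subtype.val ((MulEquiv.map_eq_one_iff h.e).1 h1)
    simp only [OneMemClass.coe_one] at this
    have ht := h.ht
    rw [this, orderOf_one] at ht
    norm_num at ht
  · show ((h.e.symm tau : ↥(Subgroup.centralizer ({h.t} : Set G))) : G) = h.t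
    rw [← h1, h.e.symm_apply_apply]

/-- The derived involution. -/
def z : G := h.ι qz

omit [Finite G] in
theorem t_sq : h.t * h.t = 1 := by rw [← pow_two, ← h.ht, pow_orderOf_eq_one]

omit [Finite G] in
theorem z_sq : h.z * h.z = 1 := by rw [z, ← map_mul, tau_sq.2.2.1, map_one]

omit [Finite G] in
theorem card_C : Nat.card ↥(Subgroup.centralizer ({h.t} : Set G)) = 48 := by
  rw [Nat.card_congr h.e.toEquiv, card_Q]

/-- The image of the Sylow subgroup of the model. -/
def P : Subgroup G := sylQ.map h.ι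

omit [Finite G] in
theorem card_P : Nat.card ↥h.P = 16 := by
  rw [P, Subgroup.card_map_of_injective h.ι_injective, card_sylQ]

theorem exists_sylow : ∃ S : Sylow 2 G, (S : Subgroup G) = h.P := by
  haveI := Fact.mk Nat.prime_two
  have hP : IsPGroup 2 ↥h.P := IsPGroup.of_card (n := 4) (by rw [h.card_P]; rfl)
  obtain ⟨R, hR⟩ := hP.exists_le_sylow
  obtain ⟨T, hT⟩ := h.hT
  have hRT : Nat.card (R : Subgroup G) = Nat.card (T : Subgroup G) := by
    rw [R.card_eq_multiplicity, T.card_eq_multiplicity]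
  refine ⟨R, (Subgroup.eq_of_le_of_card_ge hR ?_).symm⟩
  have h48 : Nat.card (T : Subgroup G) ∣ 48 := h.card_C ▸ Subgroup.card_dvd_of_le hT
  obtain ⟨k, hk⟩ := T.isPGroup'.exists_card_eq
  rw [hRT, hk, h.card_P]
  rw [hk] at h48
  have h4 : k ≤ 5 := by
    by_contra hlt
    have := Nat.le_of_dvd (by norm_num) h48
    have : 2 ^ 6 ≤ 2 ^ k := Nat.pow_le_pow_right (by norm_num) (by omega)
    omega
  interval_cases k <;> simp_all

theorem centralizer_z : Subgroup.centralizer ({h.z} : Set G) = h.P := by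
  obtain ⟨S, hS⟩ := h.exists_sylow
  have hcomm : ⁅h.P, h.P⁆ = Subgroup.zpowers h.z := by
    apply le_antisymm
    · rw [Subgroup.commutator_le]
      rintro _ ⟨a, ha, rfl⟩ _ ⟨b, hb, rfl⟩
      rw [commutatorElement_def, ← map_inv, ← map_inv, ← map_mul, ← map_mul, ← map_mul]
      rcases commutator_cases a (mem_sylQ.1 ha) b (mem_sylQ.1 hb) with h1 | h1 <;> rw [h1]
      · rw [map_one]; exact Subgroup.one_mem _
      · exact Subgroup.mem_zpowers _
    · rw [Subgroup.zpowers_le]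
      obtain ⟨a, b, ha, hb, hab⟩ := qz_commutator
      rw [z, ← hab, map_mul, map_mul, map_mul, map_inv, map_inv, ← commutatorElement_def]
      exact Subgroup.commutator_mem_commutator ⟨a, mem_sylQ.2 ha, rfl⟩ ⟨b, mem_sylQ.2 hb, rfl⟩
  have := h.h2 S
  rw [hS, hcomm, Subgroup.zpowers_eq_closure, Subgroup.centralizer_closure] at this
  exact this

theorem z_ne_t : ¬ IsConj h.z h.t := by
  intro hc
  obtain ⟨g, hg⟩ := isConj_iff.1 hc
  have h1 : Nat.card ↥(Subgroup.centralizer ({h.t} : Set G)) = Nat.card ↥h.P := by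
    rw [← h.centralizer_z]
    refine Nat.card_congr ((MulAut.conj g⁻¹).toEquiv.subtypeEquiv fun x => ?_)
    show x ∈ Subgroup.centralizer ({h.t} : Set G) ↔ MulAut.conj g⁻¹ x ∈ Subgroup.centralizer ({h.z} : Set G)
    rw [Subgroup.mem_centralizer_singleton_iff, Subgroup.mem_centralizer_singleton_iff, ← hg]
    have e1 : MulAut.conj g⁻¹ (x * (g * h.z * g⁻¹)) = MulAut.conj g⁻¹ x * h.z := by simp [mul_assoc]
    have e2 : MulAut.conj g⁻¹ (g * h.z * g⁻¹ * x) = h.z * MulAut.conj g⁻¹ x := by simp [mul_assoc]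
    rw [← e1, ← e2]
    exact (MulAut.conj g⁻¹).injective.eq_iff.symm
  rw [h.card_C, h.card_P] at h1
  omega

theorem mem_P {q : Q} : h.ι q ∈ h.P ↔ q * qz = qz * q := by
  constructor
  · rintro ⟨r, hr, hrq⟩
    exact h.ι_injective hrq ▸ mem_sylQ.1 hr
  · exact fun hq => ⟨q, mem_sylQ.2 hq, rfl⟩

/-- A normalising element of the Sylow subgroup lies in it. -/
theorem mem_of_normalizes {g : G} (hg : ∀ x, x ∈ h.P → g * x * g⁻¹ ∈ h.P) : g ∈ h.P := by
  obtain ⟨a, b, ha, hb, hab⟩ := qz_commutator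
  obtain ⟨a', ha', hea⟩ := hg _ (h.mem_P.2 ha)
  obtain ⟨b', hb', heb⟩ := hg _ (h.mem_P.2 hb)
  have key : g * h.z * g⁻¹ = h.ι (a' * b' * a'⁻¹ * b'⁻¹) := by
    simp only [map_mul, map_inv, hea, heb, z, ← hab]
    group
  rw [← h.centralizer_z, Subgroup.mem_centralizer_singleton_iff]
  rcases commutator_cases a' (mem_sylQ.1 ha') b' (mem_sylQ.1 hb') with h1 | h1 <;> rw [h1] at key
  · rw [map_one, conj_eq_one_iff, z, ← map_one h.ι] at key
    exact absurd (h.ι_injective key) tau_sq.2.2.2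
  · exact mul_inv_eq_iff_eq_mul.1 key

theorem tz_ne_z : ¬ IsConj (h.ι (tau * qz)) h.z := by
  intro hc
  obtain ⟨g, hg⟩ := isConj_iff.1 hc
  have hn : ∀ x, x ∈ h.P → g * x * g⁻¹ ∈ h.P := by
    intro x hx
    have hxz : x * h.z = h.z * x := by
      rw [← Subgroup.mem_centralizer_singleton_iff, h.centralizer_z]; exact hx
    obtain ⟨q, hq, rfl⟩ := hx
    have hxt : h.ι q * h.t = h.t * h.ι q := h.mem_iff.2 ⟨q, rfl⟩
    rw [← h.centralizer_z, Subgroup.mem_centralizer_singleton_iff, ← hg, map_mul, h.ι_tau,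
      show h.ι qz = h.z from rfl]
    calc g * h.ι q * g⁻¹ * (g * (h.t * h.z) * g⁻¹) = g * (h.ι q * h.t * h.z) * g⁻¹ := by group
      _ = g * (h.t * (h.ι q * h.z)) * g⁻¹ := by rw [hxt]; group
      _ = g * (h.t * (h.z * h.ι q)) * g⁻¹ := by rw [hxz]
      _ = _ := by group
  have hgP := h.mem_of_normalizes hn
  have hgz : g * h.z = h.z * g := by
    rw [← Subgroup.mem_centralizer_singleton_iff, h.centralizer_z]; exact hgP
  obtain ⟨q, -, rfl⟩ := hgP
  rw [← map_inv, ← map_mul, ← map_mul, z] at hg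
  have h1 := h.ι_injective hg
  rw [z, ← map_mul, ← map_mul] at hgz
  have h2 := h.ι_injective hgz
  have h3 : tau * qz = qz := by
    calc tau * qz = tau * (qz * q * q⁻¹) := by group
      _ = tau * q * qz * q⁻¹ := by rw [← h2]; group
      _ = q * (tau * qz) * q⁻¹ := by rw [← tau_central q]; group
      _ = qz := h1
  exact tau_sq.2.1 (mul_eq_right.1 h3)

theorem t_ne_tz : ¬ IsConj h.t (h.ι (tau * qz)) := by
  haveI := Fact.mk Nat.prime_two
  intro hc
  obtain ⟨g, hg⟩ := isConj_iff.1 hc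
  set C := Subgroup.centralizer ({h.t} : Set G) with hC
  obtain ⟨S, hS⟩ := h.exists_sylow
  -- the conjugated Sylow subgroup lies in `C`
  have hle : ∀ x ∈ h.P, g⁻¹ * x * g ∈ C := by
    intro x hx
    obtain ⟨q, hq, rfl⟩ := hx
    rw [hC, Subgroup.mem_centralizer_singleton_iff]
    have hqq : q * (tau * qz) = tau * qz * q := by
      rw [← mul_assoc, tau_central q, mul_assoc, mem_sylQ.1 hq, mul_assoc]
    have := congrArg h.ι hqq
    rw [map_mul, map_mul h.ι (tau * qz) q, ← hg] at this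
    calc g⁻¹ * h.ι q * g * h.t = g⁻¹ * (h.ι q * (g * h.t * g⁻¹)) * g := by group
      _ = g⁻¹ * (g * h.t * g⁻¹ * h.ι q) * g := by rw [this]
      _ = _ := by group
  have hPC : (S : Subgroup G) ≤ C := by
    rw [hS]; rintro _ ⟨q, -, rfl⟩; exact (h.e.symm q).2
  let S1 : Sylow 2 C := S.subtype hPC
  have hle2 : (g⁻¹ • S : Sylow 2 G) ≤ C := by
    intro x hx
    have hx' : x ∈ ((g⁻¹ • S : Sylow 2 G) : Subgroup G) := hx
    rw [Sylow.coe_subgroup_smul] at hx'
    obtain ⟨y, hy, rfl⟩ := hx'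
    simpa [mul_assoc] using hle y (hS ▸ hy)
  obtain ⟨c, hc1⟩ := MulAction.exists_smul_eq C (((g⁻¹ • S : Sylow 2 G)).subtype hle2) S1
  have hn : ∀ x, x ∈ h.P → ((c : G) * g⁻¹) * x * ((c : G) * g⁻¹)⁻¹ ∈ h.P := by
    intro x hx
    have hxR : g⁻¹ * x * g ∈ ((g⁻¹ • S : Sylow 2 G) : Subgroup G) := by
      rw [Sylow.coe_subgroup_smul]
      exact ⟨x, hS.symm ▸ hx, by simp⟩
    have hm : (⟨g⁻¹ * x * g, hle2 hxR⟩ : C) ∈ (((g⁻¹ • S : Sylow 2 G)).subtype hle2 : Subgroup C) := hxR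
    have h5 : c * ⟨g⁻¹ * x * g, hle2 hxR⟩ * c⁻¹ ∈ ((S1 : Subgroup C)) := by
      rw [← hc1, Sylow.coe_subgroup_smul]
      exact ⟨_, hm, by simp⟩
    have h6 : (c : G) * (g⁻¹ * x * g) * (c : G)⁻¹ ∈ h.P := hS ▸ (h5 : _)
    simpa [mul_assoc] using h6
  have hmem := h.mem_of_normalizes hn
  have hgC : g ∈ C := by
    obtain ⟨q, -, hq⟩ := hmem
    have h1 : (c : G) * g⁻¹ ∈ C := hq ▸ (h.e.symm q).2
    have h2 : g⁻¹ ∈ C := by simpa using C.mul_mem (C.inv_mem c.2) h1
    simpa using C.inv_mem h2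
  rw [hC, Subgroup.mem_centralizer_singleton_iff] at hgC
  have h3 : h.ι (tau * qz) = h.ι tau := by
    rw [h.ι_tau, ← hg, hgC, mul_inv_cancel_right]
  exact tau_sq.2.2.2 (mul_eq_left.1 (h.ι_injective h3))

end Setup

end Cfsg.Agent.Lib.TwoSymFour12
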